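import Groth.Agent.FiltBlProj.DegreeZero
import Groth.Agent.Calg6.CMSop
import Groth.Agent.LocCohBase.CM
import Mathlib.RingTheory.Ideal.KrullsHeightTheorem

/-!
# The degree-zero part of a Cohen–Macaulay homogeneous localization is Cohen–Macaulay

For a homogeneous prime `p` not containing the irrelevant ideal, contraction of extended ideals
along `AtPrime 𝒜 p → A_p` is the identity, so the degree-zero part is Noetherian, a system of
parameters of it is one of `A_p`, and regular sequences descend.
-/

set_option autoImplicit false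
set_option linter.style.haveILetI false
universe u

open HomogeneousLocalization

namespace Groth.FiltBlProj

variable {A : Type u} [CommRing A] {𝒜 : ℕ → AddSubgroup A} [GradedRing 𝒜]
  {p : Ideal A} [p.IsPrime]

local notation "v" => algebraMap (AtPrime 𝒜 p) (Localization (Ideal.primeCompl p))

/-- Extended ideals of the degree-zero part contract to themselves. -/
theorem comap_map_atPrime (I : Ideal (AtPrime 𝒜 p)) : (I.map v).comap v = I := by
  classical
  refine le_antisymm ?_ Ideal.le_comap_map
  let G : Set A := {b | ∃ (i : ℕ) (hb : b ∈ 𝒜 i) (t : A) (ht : t ∈ 𝒜 i) (htp : t ∈ p.primeCompl),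
    HomogeneousLocalization.mk ⟨i, ⟨b, hb⟩, ⟨t, ht⟩, htp⟩ ∈ I}
  have hmap : I.map v ≤ (Ideal.span G).map (algebraMap A (Localization p.primeCompl)) := by
    rw [Ideal.map_le_iff_le_comap]
    intro y hy
    obtain ⟨⟨i, ⟨b, hb⟩, ⟨t, ht⟩, htp⟩, rfl⟩ := mk_surjective y
    rw [Ideal.mem_comap]
    show Localization.mk _ _ ∈ _
    rw [Localization.mk_eq_mk', IsLocalization.mk'_mem_map_algebraMap_iff p.primeCompl]
    exact ⟨1, p.primeCompl.one_mem, by
      rw [one_mul]; exact Ideal.subset_span ⟨i, hb, t, ht, htp, hy⟩⟩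
  have key : ∀ z ∈ Ideal.span G, ∀ (c : A) (i : ℕ) (t : A) (ht : t ∈ 𝒜 i) (htp : t ∈ p.primeCompl),
      HomogeneousLocalization.mk ⟨i, DirectSum.decompose 𝒜 (c * z) i, ⟨t, ht⟩, htp⟩ ∈ I := by
    intro z hz
    induction hz using Submodule.span_induction with
    | mem g hg =>
      obtain ⟨j, hgj, s, hs, hsp, hgI⟩ := hg
      intro c i t ht htp
      by_cases hji : j ≤ i
      · have hcs : (DirectSum.decompose 𝒜 c (i - j) : A) * s ∈ 𝒜 i := by
          have h0 := SetLike.mul_mem_graded
            (SetLike.coe_mem (DirectSum.decompose 𝒜 c (i - j))) hs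
          rwa [Nat.sub_add_cancel hji] at h0
        have : HomogeneousLocalization.mk ⟨i, DirectSum.decompose 𝒜 (c * g) i, ⟨t, ht⟩, htp⟩ =
            HomogeneousLocalization.mk ⟨i, ⟨_, hcs⟩, ⟨t, ht⟩, htp⟩ *
              HomogeneousLocalization.mk ⟨j, ⟨g, hgj⟩, ⟨s, hs⟩, hsp⟩ := by
          apply HomogeneousLocalization.val_injective
          simp only [val_mul, val_mk, Localization.mk_mul]
          rw [Localization.mk_eq_mk_iff, Localization.r_iff_exists]
          refine ⟨1, ?_⟩
          simp only [DirectSum.coe_decompose_mul_of_right_mem_of_le 𝒜 hgj hji, Submonoid.coe_mul,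
            OneMemClass.coe_one, one_mul]
          ring
        rw [this]
        exact I.mul_mem_left _ hgI
      · have : HomogeneousLocalization.mk ⟨i, DirectSum.decompose 𝒜 (c * g) i, ⟨t, ht⟩, htp⟩ = 0 := by
          apply HomogeneousLocalization.val_injective
          rw [val_mk, val_zero]
          simp only [DirectSum.coe_decompose_mul_of_right_mem_of_not_le 𝒜 hgj hji, Localization.mk_zero]
        rw [this]
        exact zero_mem I
    | zero =>
      intro c i t ht htp
      have : HomogeneousLocalization.mk ⟨i, DirectSum.decompose 𝒜 (c * 0) i, ⟨t, ht⟩, htp⟩ = 0 := by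
        apply HomogeneousLocalization.val_injective
        rw [val_mk, val_zero]
        simp [Localization.mk_zero]
      rw [this]
      exact zero_mem I
    | add x y _ _ hx hy =>
      intro c i t ht htp
      have : HomogeneousLocalization.mk ⟨i, DirectSum.decompose 𝒜 (c * (x + y)) i, ⟨t, ht⟩, htp⟩ =
          HomogeneousLocalization.mk ⟨i, DirectSum.decompose 𝒜 (c * x) i, ⟨t, ht⟩, htp⟩ +
            HomogeneousLocalization.mk ⟨i, DirectSum.decompose 𝒜 (c * y) i, ⟨t, ht⟩, htp⟩ := by
        apply HomogeneousLocalization.val_injective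
        simp only [val_add, val_mk, Localization.add_mk_self]
        simp [mul_add, DirectSum.decompose_add]
      rw [this]
      exact add_mem (hx c i t ht htp) (hy c i t ht htp)
    | smul a x _ hx =>
      intro c i t ht htp
      have := hx (c * a) i t ht htp
      simpa [mul_assoc] using this
  intro x hx
  obtain ⟨⟨i, ⟨a, ha⟩, ⟨s, hs⟩, hsp⟩, rfl⟩ := mk_surjective x
  have h1 : Localization.mk a ⟨s, hsp⟩ ∈ (Ideal.span G).map (algebraMap A (Localization p.primeCompl)) :=
    hmap hx
  rw [Localization.mk_eq_mk', IsLocalization.mk'_mem_map_algebraMap_iff p.primeCompl] at h1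
  obtain ⟨w, hw, hwa⟩ := h1
  obtain ⟨e, he⟩ := exists_component_notMem (𝒜 := 𝒜) (u := w) hw
  have h2 := key _ hwa 1 (e + i) ((DirectSum.decompose 𝒜 w e : A) * s)
    (SetLike.mul_mem_graded (SetLike.coe_mem _) hs) (p.primeCompl.mul_mem he hsp)
  convert h2 using 1
  apply HomogeneousLocalization.val_injective
  simp only [val_mk]
  rw [Localization.mk_eq_mk_iff, Localization.r_iff_exists]
  refine ⟨1, ?_⟩
  simp only [one_mul, DirectSum.coe_decompose_mul_add_of_right_mem 𝒜 ha, OneMemClass.coe_one]
  ring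

theorem isNoetherianRing_atPrime [IsNoetherianRing A] : IsNoetherianRing (AtPrime 𝒜 p) := by
  have : IsNoetherianRing (Localization p.primeCompl) :=
    IsLocalization.isNoetherianRing p.primeCompl _ inferInstance
  have hwf : WellFoundedGT (Ideal (Localization p.primeCompl)) := inferInstance
  exact isNoetherian_iff'.mpr (StrictMono.wellFoundedGT (f := fun I : Ideal (AtPrime 𝒜 p) => I.map v)
    (Monotone.strictMono_of_injective (fun _ _ h => Ideal.map_mono h)
      (Function.LeftInverse.injective comap_map_atPrime)))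

/-- A homogeneous element lies in a prime over `q` exactly when its degree-zero powers lie in `q`. -/
theorem map_mem_iff {et : ℕ} (hpos : 0 < et) {t : A} (ht : t ∈ 𝒜 et) (htp : t ∈ p.primeCompl)
    (Q : Ideal (Localization p.primeCompl)) [Q.IsPrime] {d : ℕ} {c : A} (hc : c ∈ 𝒜 d) :
    algebraMap A (Localization p.primeCompl) c ∈ Q ↔
      HomogeneousLocalization.mk
        ⟨d * et, ⟨c ^ et, by rw [mul_comm d et]; exact SetLike.pow_mem_graded et hc⟩,
          ⟨t ^ d, SetLike.pow_mem_graded d ht⟩, pow_mem htp d⟩ ∈ Q.comap v := by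
  rw [Ideal.mem_comap]
  show _ ↔ Localization.mk _ _ ∈ Q
  rw [Localization.mk_eq_mk', IsLocalization.mk'_mem_iff, map_pow,
    Ideal.IsPrime.pow_mem_iff_mem inferInstance _ hpos]

theorem ringKrullDim_atPrime_le (hirr : ¬ (HomogeneousIdeal.irrelevant 𝒜).toIdeal ≤ p) :
    ringKrullDim (AtPrime 𝒜 p) ≤ ringKrullDim (Localization p.primeCompl) := by
  classical
  obtain ⟨et, hpos, t, ht, htp⟩ := exists_pos_notMem hirr
  have hex : ∀ q : PrimeSpectrum (AtPrime 𝒜 p),
      ∃ Q : Ideal (Localization p.primeCompl), Q.IsPrime ∧ Q.comap v = q.asIdeal := fun q =>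
    (Ideal.comap_map_eq_self_iff_of_isPrime q.asIdeal).mp (comap_map_atPrime q.asIdeal)
  choose Q hQ hQq using hex
  let P : PrimeSpectrum (AtPrime 𝒜 p) → Ideal A := fun q =>
    (((Q q).under A).homogeneousCore 𝒜).toIdeal
  have hP : ∀ q, (P q).IsPrime := fun q => (Ideal.IsPrime.under A (hP := hQ q)).homogeneousCore
  have hle : ∀ q, P q ≤ (Q q).under A := fun q => Ideal.toIdeal_homogeneousCore_le 𝒜 _
  have hmono : ∀ q₁ q₂ : PrimeSpectrum (AtPrime 𝒜 p), q₁ ≤ q₂ → P q₁ ≤ P q₂ := by
    intro q₁ q₂ h
    have := hQ q₁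
    have := hQ q₂
    refine (Ideal.homogeneousCore.gc 𝒜).le_u ?_
    intro a ha
    rw [← DirectSum.sum_support_decompose 𝒜 a]
    refine Ideal.sum_mem _ fun d _ => ?_
    have h1 : algebraMap A _ (DirectSum.decompose 𝒜 a d : A) ∈ Q q₁ :=
      hle q₁ ((((Q q₁).under A).homogeneousCore 𝒜).isHomogeneous d ha)
    have h2 := (map_mem_iff hpos ht htp (Q q₁) (SetLike.coe_mem _)).mp h1
    rw [hQq] at h2
    have h3 := h h2
    rw [← hQq q₂] at h3
    exact (map_mem_iff hpos ht htp (Q q₂) (SetLike.coe_mem _)).mpr h3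
  have hdisj : ∀ q, Disjoint (p.primeCompl : Set A) (P q) := fun q =>
    Set.disjoint_left.mpr fun a ha hb =>
      (hQ q).ne_top ((Q q).eq_top_of_isUnit_mem (hle q hb)
        (IsLocalization.map_units (Localization p.primeCompl) ⟨a, ha⟩))
  refine Order.krullDim_le_of_strictMono (fun q => ⟨(P q).map (algebraMap A (Localization p.primeCompl)),
    IsLocalization.isPrime_of_isPrime_disjoint p.primeCompl _ _ (hP q) (hdisj q)⟩) ?_
  refine Monotone.strictMono_of_injective (fun a b h => Ideal.map_mono (hmono a b h)) fun a b h => ?_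
  have hPab : P a = P b := by
    have h' := congrArg (fun x => Ideal.comap (algebraMap A (Localization p.primeCompl)) x.asIdeal) h
    simp only [IsLocalization.comap_map_of_isPrime_disjoint p.primeCompl _ (hP a) (hdisj a),
      IsLocalization.comap_map_of_isPrime_disjoint p.primeCompl _ (hP b) (hdisj b)] at h'
    exact h'
  have hsub : ∀ a b : PrimeSpectrum (AtPrime 𝒜 p), P a = P b → a.asIdeal ≤ b.asIdeal := by
    intro a b hab x hx
    rw [← hQq a, Ideal.mem_comap] at hx
    rw [← hQq b, Ideal.mem_comap]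
    obtain ⟨⟨i, ⟨z, hz⟩, ⟨s, hs⟩, hsp⟩, rfl⟩ := mk_surjective x
    change Localization.mk z ⟨s, hsp⟩ ∈ Q a at hx
    change Localization.mk z ⟨s, hsp⟩ ∈ Q b
    rw [Localization.mk_eq_mk', IsLocalization.mk'_mem_iff] at hx ⊢
    refine hle b (hab ▸ ?_)
    exact Ideal.mem_homogeneousCore_of_homogeneous_of_mem ⟨i, hz⟩ hx
  exact PrimeSpectrum.ext (le_antisymm (hsub a b hPab) (hsub b a hPab.symm))

/-- The degree-zero part at a relevant homogeneous prime `p` is Cohen–Macaulay if `A_p` is. -/
theorem isCohenMacaulayLocalRing_atPrime [IsNoetherianRing A]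
    (hA : LocCoh.IsCohenMacaulayLocalRing (Localization.AtPrime p)) (hp : p.IsHomogeneous 𝒜)
    (hirr : ¬ (HomogeneousIdeal.irrelevant 𝒜).toIdeal ≤ p) :
    LocCoh.IsCohenMacaulayLocalRing (AtPrime 𝒜 p) := by
  classical
  have := isNoetherianRing_atPrime (𝒜 := 𝒜) (p := p)
  have : IsNoetherianRing (Localization.AtPrime p) :=
    IsLocalization.isNoetherianRing p.primeCompl _ inferInstance
  obtain ⟨et, hpos, t, ht, htp⟩ := exists_pos_notMem hirr
  set m := IsLocalRing.maximalIdeal (AtPrime 𝒜 p)
  obtain ⟨s, hs, hcard⟩ := m.exists_finset_card_eq_height_of_isNoetherianRing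
  have hdimD : ringKrullDim (AtPrime 𝒜 p) = (s.card : WithBot ℕ∞) := by
    rw [← IsLocalRing.maximalIdeal_height_eq_ringKrullDim, ← hcard]
    rfl
  have hvm : ∀ x ∈ m, v x ∈ IsLocalRing.maximalIdeal (Localization.AtPrime p) := fun x hx hu =>
    hx ((HomogeneousLocalization.isUnit_iff_isUnit_val 𝒜 p x).mp hu)
  have hsm : ∀ x ∈ s.toList, x ∈ m := fun x hx =>
    hs.1.2 (Ideal.subset_span (Finset.mem_toList.mp hx))
  let l : List (Localization.AtPrime p) := s.toList.map v
  have hl : ∀ x ∈ l, x ∈ IsLocalRing.maximalIdeal (Localization.AtPrime p) := by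
    intro x hx
    obtain ⟨y, hy, rfl⟩ := List.mem_map.mp hx
    exact hvm y (hsm y hy)
  have huniq : ∀ Q : PrimeSpectrum (Localization.AtPrime p), Ideal.ofList l ≤ Q.asIdeal →
      Q.asIdeal = IsLocalRing.maximalIdeal (Localization.AtPrime p) := by
    intro Q hQ
    have hQm : Q.asIdeal.comap v = m := by
      refine le_antisymm (IsLocalRing.le_maximalIdeal (Ideal.IsPrime.comap _).ne_top)
        (hs.2 ⟨Ideal.IsPrime.comap _, Ideal.span_le.mpr fun y hy => ?_⟩
          (IsLocalRing.le_maximalIdeal (Ideal.IsPrime.comap _).ne_top))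
      exact hQ (Ideal.subset_span (List.mem_map.mpr ⟨y, Finset.mem_toList.mpr hy, rfl⟩))
    refine le_antisymm (IsLocalRing.le_maximalIdeal Q.isPrime.ne_top) ?_
    rw [← IsLocalization.map_under p.primeCompl (Localization.AtPrime p) (IsLocalRing.maximalIdeal _),
      Ideal.map_le_iff_le_comap, show Ideal.under A (IsLocalRing.maximalIdeal (Localization.AtPrime p)) = p from
        IsLocalization.AtPrime.under_maximalIdeal (Localization.AtPrime p) p]
    intro a ha
    rw [← DirectSum.sum_support_decompose 𝒜 a]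
    refine Ideal.sum_mem _ fun d _ => (map_mem_iff hpos ht htp Q.asIdeal (SetLike.coe_mem _)).mpr ?_
    rw [hQm]
    intro hu
    have h1 := (HomogeneousLocalization.isUnit_iff_isUnit_val 𝒜 p _).mpr hu
    simp only [val_mk, Localization.mk_eq_mk'] at h1
    rw [IsLocalization.AtPrime.isUnit_mk'_iff (Localization.AtPrime p) p] at h1
    exact h1 (Ideal.pow_mem_of_mem _ (hp d ha) et hpos)
  have hdim0 : Module.supportDim (Localization.AtPrime p)
      (Localization.AtPrime p ⧸ Ideal.ofList l • (⊤ : Submodule (Localization.AtPrime p) (Localization.AtPrime p))) ≤ 0 := by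
    rw [smul_eq_mul, Ideal.mul_top, Module.supportDim_quotient_eq_ringKrullDim, ringKrullDim_quotient]
    have : Subsingleton (PrimeSpectrum.zeroLocus (Ideal.ofList l : Set (Localization.AtPrime p))) :=
      ⟨fun a b => Subtype.ext (PrimeSpectrum.ext ((huniq a.1 a.2).trans (huniq b.1 b.2).symm))⟩
    exact Order.krullDim_nonpos_of_subsingleton
  have hCM : LocCoh.IsCohenMacaulayModule (Localization.AtPrime p) (Localization.AtPrime p) :=
    hA.supportDim_eq_depth
  have hreg : RingTheory.Sequence.IsWeaklyRegular (Localization.AtPrime p) l := by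
    refine Groth.Calg6.isWeaklyRegular_of_supportDim_add_length_le l _ hCM hl ?_
    rw [show l.length = s.card by simp [l]]
    refine (add_le_add_left hdim0 _).trans ?_
    rw [zero_add, Module.supportDim_self_eq_ringKrullDim, ← hdimD]
    exact ringKrullDim_atPrime_le hirr
  have hregD : RingTheory.Sequence.IsWeaklyRegular (AtPrime 𝒜 p) s.toList := by
    refine ⟨fun i hi => ?_⟩
    have h := hreg.regular_mod_prev i (by simpa [l] using hi)
    rw [isSMulRegular_quotient_iff_mem_of_smul_mem] at h ⊢
    intro x hx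
    simp only [smul_eq_mul, Ideal.mul_top] at h hx ⊢
    have hl' : Ideal.ofList (l.take i) = (Ideal.ofList (s.toList.take i)).map v := by
      rw [Ideal.map_ofList, List.map_take]
    rw [hl'] at h
    have hget : l[i]'(by simpa [l] using hi) = v s.toList[i] := by simp [l]
    have h' := h (v x) (by
      rw [hget, ← map_mul]
      exact Ideal.mem_map_of_mem _ hx)
    rwa [← Ideal.mem_comap, comap_map_atPrime] at h'
  refine { supportDim_eq_depth := le_antisymm ?_ (Groth.LocCohBase.depth_le_supportDim (AtPrime 𝒜 p)) }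
  rw [Module.supportDim_self_eq_ringKrullDim, hdimD]
  have hne : m • (⊤ : Submodule (AtPrime 𝒜 p) (AtPrime 𝒜 p)) ≠ ⊤ :=
    Groth.LocCohBase.smul_maximalIdeal_ne_top _ (IsLocalRing.maximalIdeal.isMaximal _).ne_top
  exact WithBot.coe_le_coe.mpr ((Groth.LocCohBase.le_idealDepth_iff_exists m hne s.card).mpr
    ⟨s.toList, Finset.length_toList s, hregD, hsm⟩)

end Groth.FiltBlProj
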