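import Groth.Prelude.Def_CAlg
import Mathlib.RingTheory.GradedAlgebra.HomogeneousLocalization
import Mathlib.RingTheory.GradedAlgebra.Radical
import Mathlib.RingTheory.IntegralClosure.IntegrallyClosed
import Mathlib.RingTheory.Ideal.AssociatedPrime.Localization
import Mathlib.RingTheory.KrullDimension.Module

/-!
# The degree-zero part of the localization of a graded ring at a homogeneous prime
-/

set_option autoImplicit false
set_option linter.style.haveILetI false
universe u

open HomogeneousLocalization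

namespace Groth.FiltBlProj

variable {A : Type u} [CommRing A] {𝒜 : ℕ → AddSubgroup A} [GradedRing 𝒜]
  {p : Ideal A} [p.IsPrime]

omit [p.IsPrime] in
lemma exists_component_notMem {u : A} (hu : u ∉ p) :
    ∃ e, (DirectSum.decompose 𝒜 u e : A) ∉ p := by
  classical
  by_contra! h
  exact hu (by rw [← DirectSum.sum_support_decompose 𝒜 u]; exact Ideal.sum_mem _ fun e _ ↦ h e)

lemma exists_pos_notMem (hirr : ¬ (HomogeneousIdeal.irrelevant 𝒜).toIdeal ≤ p) :
    ∃ e > 0, ∃ t ∈ 𝒜 e, t ∉ p := by
  obtain ⟨u, hu, hup⟩ := SetLike.not_le_iff_exists.mp hirr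
  obtain ⟨e, he⟩ := exists_component_notMem (𝒜 := 𝒜) hup
  refine ⟨e, Nat.pos_of_ne_zero ?_, _, SetLike.coe_mem _, he⟩
  rintro rfl
  apply he
  have h := (HomogeneousIdeal.mem_irrelevant_iff 𝒜 u).mp hu
  rw [GradedRing.proj_apply] at h
  rw [h]
  exact zero_mem _

lemma algebraMap_injective :
    Function.Injective (algebraMap (AtPrime 𝒜 p) (Localization p.primeCompl)) :=
  fun _ _ h ↦ HomogeneousLocalization.val_injective _ h

lemma isDomain_atPrime [IsDomain (Localization.AtPrime p)] : IsDomain (AtPrime 𝒜 p) :=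
  (algebraMap_injective (𝒜 := 𝒜) (p := p)).isDomain

/-- A relation `x = c * y` in `A_p` between degree-zero fractions can be realised in degree zero. -/
lemma exists_mul_eq {x y : AtPrime 𝒜 p} {c : Localization.AtPrime p} (h : x.val = c * y.val) :
    ∃ d : AtPrime 𝒜 p, x.val = d.val * y.val := by
  obtain ⟨⟨i, ⟨a, ha⟩, ⟨s, hs⟩, hsp⟩, rfl⟩ := mk_surjective x
  obtain ⟨⟨j, ⟨b, hb⟩, ⟨t, ht⟩, htp⟩, rfl⟩ := mk_surjective y
  obtain ⟨C, ⟨U, hU⟩, rfl⟩ := IsLocalization.exists_mk'_eq p.primeCompl c
  simp only [val_mk, Localization.mk_eq_mk'] at h ⊢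
  rw [← IsLocalization.mk'_mul, IsLocalization.mk'_eq_iff_eq, IsLocalization.eq_iff_exists p.primeCompl] at h
  obtain ⟨⟨w, hw⟩, h⟩ := h
  simp only [Submonoid.coe_mul] at h
  have hat : a * t ∈ 𝒜 (i + j) := SetLike.mul_mem_graded ha ht
  have hbs : b * s ∈ 𝒜 (i + j) := by rw [add_comm i j]; exact SetLike.mul_mem_graded hb hs
  have heq : w * U * (a * t) = w * C * (b * s) := by linear_combination h
  obtain ⟨e, he⟩ := exists_component_notMem (𝒜 := 𝒜) (u := w * U)
    ((p.primeCompl.mul_mem hw hU : w * U ∈ p.primeCompl))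
  have h2 := congrArg (fun z ↦ (DirectSum.decompose 𝒜 z (e + (i + j)) : A)) heq
  simp only [DirectSum.coe_decompose_mul_add_of_right_mem 𝒜 hat,
    DirectSum.coe_decompose_mul_add_of_right_mem 𝒜 hbs] at h2
  refine ⟨HomogeneousLocalization.mk
    ⟨e, DirectSum.decompose 𝒜 (w * C) e, DirectSum.decompose 𝒜 (w * U) e, he⟩, ?_⟩
  rw [val_mk, Localization.mk_eq_mk', ← IsLocalization.mk'_mul, IsLocalization.mk'_eq_iff_eq]
  congr 1
  simp only [Submonoid.coe_mul]
  linear_combination h2

omit [GradedRing 𝒜] [p.IsPrime] in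
/-- An integrally closed domain induces the property on a subring `D` whose fraction field meets it in `D`. -/
lemma isIntegrallyClosed_of_exists_mul_eq {D R : Type*} [CommRing D] [CommRing R] [IsDomain R]
    [IsIntegrallyClosed R] (v : D →+* R) (hv : Function.Injective v)
    (h : ∀ x y : D, ∀ c : R, v x = c * v y → ∃ d, v x = v d * v y) : IsIntegrallyClosed D := by
  haveI := hv.isDomain
  have hι : Function.Injective ((algebraMap R (FractionRing R)).comp v) :=
    (IsFractionRing.injective R (FractionRing R)).comp hv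
  set ι := (algebraMap R (FractionRing R)).comp v with hdef
  set l : FractionRing D →+* FractionRing R := IsFractionRing.lift hι
  have hl : ∀ d, l (algebraMap D _ d) = ι d := fun d ↦ IsFractionRing.lift_algebraMap hι d
  rw [isIntegrallyClosed_iff (FractionRing D)]
  intro z hz
  obtain ⟨x, y, hy, rfl⟩ := IsFractionRing.div_surjective (A := D) z
  have hy0 : algebraMap D (FractionRing D) y ≠ 0 :=
    IsFractionRing.to_map_ne_zero_of_mem_nonZeroDivisors hy
  have h1 : IsIntegral R (l (algebraMap D _ x / algebraMap D _ y)) := by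
    obtain ⟨P, hP, hPz⟩ := hz
    refine ⟨P.map v, hP.map _, ?_⟩
    rw [Polynomial.eval₂_map]
    have := congrArg l hPz
    rw [Polynomial.hom_eval₂, map_zero] at this
    have e : l.comp (algebraMap D (FractionRing D)) = ι := RingHom.ext hl
    rw [e, hdef] at this
    exact this
  obtain ⟨c, hc⟩ := IsIntegrallyClosed.isIntegral_iff.mp h1
  have hxy : v x = c * v y := by
    apply IsFractionRing.injective R (FractionRing R)
    rw [map_mul, hc, map_div₀, hl, hl]
    have : ι y ≠ 0 := fun h ↦ nonZeroDivisors.ne_zero hy (hι (h.trans (map_zero ι).symm))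
    exact (div_mul_cancel₀ _ this).symm
  obtain ⟨d, hd⟩ := h _ _ _ hxy
  refine ⟨d, (div_eq_iff hy0).mpr ?_ |>.symm⟩
  rw [← map_mul]
  exact congrArg _ (hv (by rw [map_mul]; exact hd))

lemma isIntegrallyClosed_atPrime [IsDomain (Localization.AtPrime p)]
    [IsIntegrallyClosed (Localization.AtPrime p)] : IsIntegrallyClosed (AtPrime 𝒜 p) :=
  isIntegrallyClosed_of_exists_mul_eq (R := Localization.AtPrime p)
    (algebraMap (AtPrime 𝒜 p) (Localization p.primeCompl)) algebraMap_injective
    fun x y c hc ↦ exists_mul_eq (x := x) (y := y) (c := c) hc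

section S1

lemma isHomogeneous_of_mem_minimalPrimes {P : Ideal A} (hP : P ∈ minimalPrimes A) :
    P.IsHomogeneous 𝒜 := by
  have h1 : (P.homogeneousCore 𝒜).toIdeal ≤ P := Ideal.toIdeal_homogeneousCore_le 𝒜 P
  have h2 := hP.2 ⟨(Ideal.minimalPrimes_isPrime hP).homogeneousCore, bot_le⟩ h1
  rw [le_antisymm h2 h1]
  exact (P.homogeneousCore 𝒜).isHomogeneous

/-- The associated primes of a Noetherian ring with Serre's `(S₁)` are minimal. -/
theorem mem_minimalPrimes_of_mem_associatedPrimes {R : Type u} [CommRing R] [IsNoetherianRing R]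
    (h : LocCoh.HasSk 1 R R) {P : Ideal R} (hP : P ∈ associatedPrimes R R) : P ∈ minimalPrimes R := by
  have : P.IsPrime := hP.isPrime
  rw [← Ideal.height_eq_zero_iff]
  by_contra hht
  have hmem := Module.associatedPrimes.mem_associatedPrimes_atPrime_of_mem_associatedPrimes hP
  have hdim : (1 : WithBot ℕ∞) ≤
      Module.supportDim (Localization.AtPrime P) (LocalizedModule P.primeCompl R) := by
    have e : Module.supportDim (Localization.AtPrime P) (LocalizedModule P.primeCompl R) =
        ringKrullDim (Localization.AtPrime P) := Module.supportDim_self_eq_ringKrullDim _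
    rw [e, IsLocalization.AtPrime.ringKrullDim_eq_height P (Localization.AtPrime P)]
    exact_mod_cast (Order.one_le_iff_ne_zero (α := ℕ∞)).mpr hht
  have hd := h P
  rw [min_eq_left (by exact_mod_cast hdim), Nat.cast_one, LocCoh.depth, LocCoh.idealDepth] at hd
  split_ifs at hd with htop
  · exact Submodule.top_ne_ideal_smul_of_le_jacobson_annihilator
      (IsLocalRing.maximalIdeal_le_jacobson _) htop.symm
  replace hd : (1 : ℕ∞) ≤ ⨆ (rs : List (Localization.AtPrime P))
      (_ : RingTheory.Sequence.IsWeaklyRegular (LocalizedModule P.primeCompl R) rs ∧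
        ∀ r ∈ rs, r ∈ IsLocalRing.maximalIdeal (Localization.AtPrime P)), (rs.length : ℕ∞) :=
    WithBot.coe_le_coe.mp hd
  by_cases hex : ∃ r rs, RingTheory.Sequence.IsWeaklyRegular (LocalizedModule P.primeCompl R)
      (r :: rs) ∧ r ∈ IsLocalRing.maximalIdeal (Localization.AtPrime P)
  · obtain ⟨r, rs, hr, hrm⟩ := hex
    have hreg := ((RingTheory.Sequence.isWeaklyRegular_cons_iff _ _ _).mp hr).1
    have hzd : r ∈ {r : Localization.AtPrime P | ∃ x : LocalizedModule P.primeCompl R,
        x ≠ 0 ∧ r • x = 0} := by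
      rw [← biUnion_associatedPrimes_eq_zero_divisors]
      exact Set.mem_biUnion hmem hrm
    obtain ⟨x, hx0, hx⟩ := hzd
    exact hx0 (hreg.right_eq_zero_of_smul hx)
  · refine absurd (hd.trans (iSup₂_le (a := 0) fun rs hrs ↦ ?_)) (by simp)
    match rs, hrs with
    | [], _ => simp
    | r :: rs, hrs => exact absurd ⟨r, rs, hrs.1, hrs.2 r (List.mem_cons_self ..)⟩ hex

/-- A ring in which every non-minimal prime contains a non-zero-divisor satisfies `(S₁)`. -/
theorem hasS1_of_forall_exists {R : Type u} [CommRing R]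
    (h : ∀ q : Ideal R, q.IsPrime → q ∉ minimalPrimes R → ∃ y ∈ q, ∀ a, y * a = 0 → a = 0) :
    LocCoh.HasSk 1 R R := by
  intro q hq
  by_cases hmin : q ∈ minimalPrimes R
  · refine le_trans (min_le_right _ _) (le_trans (le_of_eq ?_) (WithBot.coe_le_coe.mpr zero_le))
    have e : Module.supportDim (Localization.AtPrime q) (LocalizedModule q.primeCompl R) =
        ringKrullDim (Localization.AtPrime q) := Module.supportDim_self_eq_ringKrullDim _
    rw [e, IsLocalization.AtPrime.ringKrullDim_eq_height q (Localization.AtPrime q),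
      Ideal.height_eq_zero_iff.mpr hmin]
  obtain ⟨y, hyq, hynzd⟩ := h q hq hmin
  refine (min_le_left _ _).trans ?_
  rw [Nat.cast_one, LocCoh.depth, LocCoh.idealDepth]
  split_ifs
  · exact WithBot.coe_le_coe.mpr le_top
  refine (WithBot.coe_le_coe (a := (1 : ℕ∞))).mpr
    (le_iSup₂_of_le [algebraMap _ (Localization.AtPrime q) y] ⟨?_, ?_⟩ (by simp))
  · rw [RingTheory.Sequence.isWeaklyRegular_singleton_iff]
    refine (isSMulRegular_iff_right_eq_zero_of_smul).mpr fun m hm ↦ ?_
    induction m using LocalizedModule.induction_on with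
    | h m s =>
      rw [algebraMap_smul, LocalizedModule.smul'_mk, ← LocalizedModule.zero_mk 1, LocalizedModule.mk_eq] at hm
      obtain ⟨s', hs'⟩ := hm
      rw [← LocalizedModule.zero_mk 1, LocalizedModule.mk_eq]
      refine ⟨s', ?_⟩
      simp only [one_smul, smul_zero, Submonoid.smul_def, smul_eq_mul, mul_zero] at hs' ⊢
      exact hynzd _ (by rwa [mul_left_comm])
  · intro r hr
    rw [List.mem_singleton.mp hr]
    exact (IsLocalization.AtPrime.to_map_mem_maximal_iff (Localization.AtPrime q) q y).mpr hyq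

/-- In the degree-zero part of the localization at a homogeneous prime, `(S₁)` gives non-zero-divisors in
all non-minimal primes. -/
theorem exists_nzd_atPrime [IsNoetherianRing A] (hA : LocCoh.HasSk 1 A A)
    (hirr : ¬ (HomogeneousIdeal.irrelevant 𝒜).toIdeal ≤ p)
    (q : Ideal (AtPrime 𝒜 p)) (hq : q.IsPrime) (hmin : q ∉ minimalPrimes (AtPrime 𝒜 p)) :
    ∃ y ∈ q, ∀ a, y * a = 0 → a = 0 := by
  set v := algebraMap (AtPrime 𝒜 p) (Localization p.primeCompl)
  obtain ⟨q₀, hq₀, hq₀q⟩ := Ideal.exists_minimalPrimes_le (I := (⊥ : Ideal (AtPrime 𝒜 p))) (bot_le : ⊥ ≤ q)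
  obtain ⟨t', et, ht, htp, hpos⟩ : ∃ t e, t ∈ 𝒜 e ∧ t ∉ p ∧ 0 < e := by
    obtain ⟨e, he, t, ht, htp⟩ := exists_pos_notMem hirr
    exact ⟨t, e, ht, htp, he⟩
  have hfin : (minimalPrimes (Localization.AtPrime p)).Finite := minimalPrimes.finite_of_isNoetherianRing _
  obtain ⟨y, hyq, hy⟩ : ∃ y ∈ q, ∀ Q ∈ minimalPrimes (Localization.AtPrime p), v y ∉ Q := by
    by_contra! hc
    have hsub : (q : Set (AtPrime 𝒜 p)) ⊆ ⋃ Q ∈ (hfin.toFinset : Set (Ideal (Localization.AtPrime p))), (Ideal.comap v Q : Set (AtPrime 𝒜 p)) := by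
      intro y hy
      obtain ⟨Q, hQ, hyQ⟩ := hc y hy
      exact Set.mem_biUnion (hfin.mem_toFinset.mpr hQ) hyQ
    obtain ⟨Q, hQ, hqQ⟩ := (Ideal.subset_union_prime (f := fun Q : Ideal (Localization.AtPrime p) ↦ Q.comap v) ⊥ ⊥ fun Q hQ _ _ ↦
      (Ideal.minimalPrimes_isPrime (hfin.mem_toFinset.mp hQ)).comap v).mp hsub
    rw [Set.Finite.mem_toFinset] at hQ
    obtain ⟨Q₀, hQ₀, hQ₀q⟩ := Ideal.exists_minimalPrimes_comap_eq v q₀
      (by
        have : (⊥ : Ideal (Localization p.primeCompl)).comap v = ⊥ :=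
          Ideal.comap_bot_of_injective v algebraMap_injective
        rwa [this])
    have := Ideal.minimalPrimes_isPrime hQ₀
    have hQp := Ideal.minimalPrimes_isPrime hQ
    have hle : Q₀ ≤ Q := by
      rw [← IsLocalization.map_under p.primeCompl (Localization.AtPrime p) Q₀, Ideal.map_le_iff_le_comap]
      have hP₀ : Q₀.under A ∈ minimalPrimes A := by
        rw [← Ideal.height_eq_zero_iff, IsLocalization.height_under p.primeCompl]
        exact Ideal.height_eq_zero_iff.mpr hQ₀
      classical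
      intro b hb
      rw [← DirectSum.sum_support_decompose 𝒜 b]
      refine Ideal.sum_mem _ fun d _ ↦ ?_
      set c : A := (DirectSum.decompose 𝒜 b d : A)
      have hc₀ : algebraMap A (Localization.AtPrime p) c ∈ Q₀ :=
        isHomogeneous_of_mem_minimalPrimes hP₀ d hb
      let z : AtPrime 𝒜 p := HomogeneousLocalization.mk
        ⟨d * et, ⟨c ^ et, by rw [mul_comm d et]; exact SetLike.pow_mem_graded et ((DirectSum.decompose 𝒜 b d).2 : c ∈ 𝒜 d)⟩,
          ⟨t' ^ d, SetLike.pow_mem_graded d ht⟩, pow_mem htp d⟩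
      have hz : ∀ Q' : Ideal (Localization.AtPrime p), v z ∈ Q' ↔ algebraMap A _ c ^ et ∈ Q' := fun Q' ↦ by
        rw [← map_pow]
        show Localization.mk _ _ ∈ Q' ↔ _
        rw [Localization.mk_eq_mk']
        exact IsLocalization.mk'_mem_iff
      have hzq : z ∈ q := hq₀q (hQ₀q.le ((hz Q₀).mpr (Ideal.pow_mem_of_mem _ hc₀ et hpos)))
      show algebraMap A (Localization.AtPrime p) c ∈ Q
      exact hQp.mem_of_pow_mem et ((hz Q).mp (hqQ hzq))
    have hQQ : Q₀ = Q := le_antisymm hle (hQ.2 hQ₀.1 hle)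
    subst hQQ
    exact hmin (le_antisymm (hqQ.trans hQ₀q.le) hq₀q ▸ hq₀)
  have hS : ∀ Q ∈ associatedPrimes (Localization.AtPrime p) (Localization.AtPrime p),
      Q ∈ minimalPrimes (Localization.AtPrime p) := by
    intro Q hQ
    have : Q.IsPrime := hQ.isPrime
    rw [← Ideal.height_eq_zero_iff, ← IsLocalization.height_under p.primeCompl]
    refine Ideal.height_eq_zero_iff.mpr (mem_minimalPrimes_of_mem_associatedPrimes hA ?_)
    exact Module.associatedPrimes.comap_mem_associatedPrimes_of_mem_associatedPrimes_of_isLocalizedModule_of_fg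
      p.primeCompl (Algebra.linearMap A (Localization.AtPrime p)) Q hQ
      ((isNoetherianRing_iff_ideal_fg A).mp ‹_› _)
  have hynzd : ∀ a, y * a = 0 → a = 0 := by
    intro a ha
    by_contra h0
    have hva : v a ≠ 0 := fun h ↦ h0 (algebraMap_injective (h.trans (map_zero v).symm))
    have : v y ∈ ⋃ Q ∈ associatedPrimes (Localization.AtPrime p) (Localization.AtPrime p), (Q : Set _) := by
      rw [biUnion_associatedPrimes_eq_zero_divisors]
      exact ⟨v a, hva, by rw [smul_eq_mul, ← map_mul, ha, map_zero]⟩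
    obtain ⟨Q, hQ, hyQ⟩ := Set.mem_iUnion₂.mp this
    exact hy Q (hS Q hQ) hyQ
  exact ⟨y, hyq, hynzd⟩

/-- `(S₁)` passes to the degree-zero part of the localization at a homogeneous prime not containing
the irrelevant ideal, and to every ring isomorphic to it. -/
theorem hasS1_of_ringEquiv_atPrime [IsNoetherianRing A] (hA : LocCoh.HasSk 1 A A)
    (hirr : ¬ (HomogeneousIdeal.irrelevant 𝒜).toIdeal ≤ p) {R : Type u} [CommRing R]
    (e : R ≃+* AtPrime 𝒜 p) : LocCoh.HasSk 1 R R := by
  refine hasS1_of_forall_exists fun q hq hmin ↦ ?_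
  have hm' : q.comap e.symm.toRingHom ∉ minimalPrimes (AtPrime 𝒜 p) := fun hm ↦ hmin <| by
    rw [← Ideal.height_eq_zero_iff] at hm ⊢
    exact (RingEquiv.height_comap e.symm q).symm.trans hm
  obtain ⟨y, hy, hnz⟩ := exists_nzd_atPrime hA hirr (q.comap e.symm.toRingHom) inferInstance hm'
  exact ⟨e.symm y, hy, fun a ha ↦ e.injective (by
      rw [map_zero]; exact hnz _ (e.symm.injective (by simpa using ha)))⟩

end S1

end Groth.FiltBlProj
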