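import Groth.Prelude.Def_GrLC
import Groth.Agent.Ega4Algebra1.RegularLocal
import Mathlib.Algebra.TrivSqZeroExt
import Mathlib.Algebra.Polynomial.Laurent
import Mathlib.RingTheory.Ideal.GoingUp
import Mathlib.RingTheory.RegularLocalRing.Polynomial
import Mathlib.RingTheory.GradedAlgebra.Basic
import Mathlib.RingTheory.AdjoinRoot
import Mathlib.Tactic

/-!
# Graded rings with a unit of positive degree: `R / (t - 1)`
-/

set_option autoImplicit false
universe u

open IsLocalRing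

namespace Groth.FiltBlProj

variable {R : Type u} [CommRing R] {𝒜 : ℤ → AddSubgroup R} [GradedRing 𝒜]

/-- A ring map out of a graded ring given degree by degree. -/
noncomputable def gradedHom {T : Type*} [CommRing T] (f : ∀ i, 𝒜 i →+ T) (hone : f 0 ⟨1, SetLike.one_mem_graded 𝒜⟩ = 1)
    (hmul : ∀ {i j} (a : 𝒜 i) (b : 𝒜 j), f (i + j) ⟨a * b, SetLike.mul_mem_graded a.2 b.2⟩ = f i a * f j b) :
    R →+* T :=
  (DirectSum.toSemiring f hone fun a b => hmul a b).comp (DirectSum.decomposeRingEquiv 𝒜).toRingHom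

lemma gradedHom_apply {T : Type*} [CommRing T] (f : ∀ i, 𝒜 i →+ T) (hone : f 0 ⟨1, SetLike.one_mem_graded 𝒜⟩ = 1)
    (hmul : ∀ {i j} (a : 𝒜 i) (b : 𝒜 j), f (i + j) ⟨a * b, SetLike.mul_mem_graded a.2 b.2⟩ = f i a * f j b)
    {i : ℤ} (a : 𝒜 i) :
    gradedHom f hone hmul (a : R) = f i a := by
  change DirectSum.toSemiring f hone (fun a b => hmul a b) (DirectSum.decompose 𝒜 (a : R)) = _
  rw [DirectSum.decompose_coe, DirectSum.toSemiring_of]

lemma hom_ext_of_homogeneous {T : Type*} [CommRing T] {φ ψ : R →+* T}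
    (h : ∀ i, ∀ a ∈ 𝒜 i, φ a = ψ a) : φ = ψ := by
  classical
  ext x
  rw [← DirectSum.sum_support_decompose 𝒜 x, map_sum, map_sum]
  exact Finset.sum_congr rfl fun i _ => h i _ (DirectSum.decompose 𝒜 x i).2

variable {N : ℕ} {t : R}

lemma zpow_mem_graded (ht : t ∈ 𝒜 (N : ℤ)) (htu : IsUnit t) (q : ℤ) :
    ((htu.unit ^ q : Rˣ) : R) ∈ 𝒜 (q * N) := by
  have hinv : ((htu.unit⁻¹ : Rˣ) : R) ∈ 𝒜 (-(N : ℤ)) := by
    classical
    have h1 : ((htu.unit⁻¹ : Rˣ) : R) * t = 1 := htu.val_inv_mul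
    have h2 := congrArg (fun z => (DirectSum.decompose 𝒜 z (-(N : ℤ) + N) : R)) h1
    simp only [DirectSum.coe_decompose_mul_add_of_right_mem 𝒜 ht] at h2
    rw [neg_add_cancel, DirectSum.decompose_of_mem_same 𝒜 (SetLike.one_mem_graded 𝒜)] at h2
    have h3 : ((htu.unit⁻¹ : Rˣ) : R) =
        (DirectSum.decompose 𝒜 ((htu.unit⁻¹ : Rˣ) : R) (-(N : ℤ)) : R) :=
      htu.mul_left_inj.mp (h1.trans h2.symm)
    rw [h3]
    exact (DirectSum.decompose 𝒜 _ _).2
  induction q using Int.induction_on with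
  | zero => simpa using SetLike.one_mem_graded 𝒜
  | succ n ih =>
    rw [zpow_add_one, Units.val_mul, IsUnit.unit_spec, add_mul, one_mul]
    exact SetLike.mul_mem_graded ih ht
  | pred n ih =>
    rw [zpow_sub_one, Units.val_mul, sub_mul, one_mul, sub_eq_add_neg]
    exact SetLike.mul_mem_graded ih hinv

variable (ht : t ∈ 𝒜 (N : ℤ)) (htu : IsUnit t)

/-- `a / t ^ q` in degree zero, for `a` of degree `q N`. -/
noncomputable def toDeg0 {i : ℤ} (a : 𝒜 i) (q : ℤ) (h : i = q * N) : GrLC.deg0 𝒜 :=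
  ⟨(a : R) * ((htu.unit ^ (-q) : Rˣ) : R), by
    have := SetLike.mul_mem_graded a.2 (zpow_mem_graded ht htu (-q))
    rwa [show i + -q * (N : ℤ) = 0 by rw [h]; ring] at this⟩

@[simp] lemma coe_toDeg0 {i : ℤ} (a : 𝒜 i) (q : ℤ) (h : i = q * N) :
    (toDeg0 ht htu a q h : R) = (a : R) * ((htu.unit ^ (-q) : Rˣ) : R) := rfl

/-- No unit has degree strictly between `0` and `N`. -/
def MinDeg (𝒜 : ℤ → AddSubgroup R) (N : ℕ) : Prop := ∀ i : ℤ, 0 < i → i < N → ∀ s ∈ 𝒜 i, ¬ IsUnit s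

include ht htu in
lemma not_isUnit_of_not_dvd (hN : 0 < N) (hmin : MinDeg 𝒜 N) {i : ℤ} (hi : ¬ (N : ℤ) ∣ i) {a : R}
    (ha : a ∈ 𝒜 i) : ¬ IsUnit a := by
  intro hu
  have hmem : a * ((htu.unit ^ (-(i / N)) : Rˣ) : R) ∈ 𝒜 (i % N) := by
    have := SetLike.mul_mem_graded ha (zpow_mem_graded ht htu (-(i / N)))
    rwa [show i + -(i / N) * N = i % N by rw [Int.emod_def]; ring] at this
  have hne : i % N ≠ 0 := fun h => hi (Int.dvd_of_emod_eq_zero h)
  have h0 := Int.emod_nonneg i (show (N : ℤ) ≠ 0 by omega)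
  exact hmin (i % N) (by omega) (Int.emod_lt_of_pos i (by omega)) _ hmem (hu.mul (Units.isUnit _))

variable [IsLocalRing (GrLC.deg0 𝒜)]

/-- The residue of a homogeneous element, as a first-order deformation: `t ↦ 1 + ε`. -/
noncomputable def dualFun (i : ℤ) :
    𝒜 i →+ TrivSqZeroExt (ResidueField (GrLC.deg0 𝒜)) (ResidueField (GrLC.deg0 𝒜)) :=
  if h : (N : ℤ) ∣ i then
    { toFun := fun a => TrivSqZeroExt.inl (residue _ (toDeg0 ht htu a (i / N) (Int.ediv_mul_cancel h).symm)) *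
        (1 + TrivSqZeroExt.inr ((i / N : ℤ) : ResidueField (GrLC.deg0 𝒜)))
      map_zero' := by
        rw [show toDeg0 ht htu (0 : 𝒜 i) (i / N) (Int.ediv_mul_cancel h).symm = 0 from Subtype.ext (by simp)]
        simp
      map_add' := fun a b => by
        rw [show toDeg0 ht htu (a + b) (i / N) (Int.ediv_mul_cancel h).symm =
          toDeg0 ht htu a (i / N) (Int.ediv_mul_cancel h).symm + toDeg0 ht htu b (i / N) (Int.ediv_mul_cancel h).symm
          from Subtype.ext (by simp [add_mul]), map_add, TrivSqZeroExt.inl_add, add_mul] }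
  else 0

lemma dualFun_of_dvd {i : ℤ} (q : ℤ) (h : i = q * N) (hN : 0 < N) (a : 𝒜 i) :
    dualFun ht htu i a = TrivSqZeroExt.inl (residue _ (toDeg0 ht htu a q h)) *
      (1 + TrivSqZeroExt.inr ((q : ℤ) : ResidueField (GrLC.deg0 𝒜))) := by
  have hq : i / N = q := by rw [h, Int.mul_ediv_cancel _ (by omega)]
  subst hq
  rw [dualFun, dif_pos ⟨i / N, by rw [mul_comm]; exact h⟩]
  rfl

lemma dualFun_of_not_dvd {i : ℤ} (h : ¬ (N : ℤ) ∣ i) (a : 𝒜 i) : dualFun ht htu i a = 0 := by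
  rw [dualFun, dif_neg h]; rfl

lemma dualFun_mul (hN : 0 < N) (hmin : MinDeg 𝒜 N) {i j : ℤ} (a : 𝒜 i) (b : 𝒜 j) :
    dualFun ht htu (i + j) ⟨(a : R) * b, SetLike.mul_mem_graded a.2 b.2⟩ =
      dualFun ht htu i a * dualFun ht htu j b := by
  by_cases hij : (N : ℤ) ∣ i + j
  swap
  · rw [dualFun_of_not_dvd ht htu hij]
    by_cases hi : (N : ℤ) ∣ i
    · rw [dualFun_of_not_dvd ht htu (i := j) (fun hj => hij (dvd_add hi hj)), mul_zero]
    · rw [dualFun_of_not_dvd ht htu hi, zero_mul]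
  obtain ⟨s, hs⟩ := hij
  rw [dualFun_of_dvd ht htu s (by rw [hs, mul_comm]) hN]
  by_cases hi : (N : ℤ) ∣ i
  · have hj : (N : ℤ) ∣ j := (Int.dvd_add_right hi).mp ⟨s, hs⟩
    obtain ⟨q, rfl⟩ := hi
    obtain ⟨r, rfl⟩ := hj
    have hs' : s = q + r := by
      have : (N : ℤ) * s = N * (q + r) := by rw [← hs]; ring
      exact mul_left_cancel₀ (by omega) this
    subst hs'
    rw [dualFun_of_dvd ht htu q (mul_comm _ _) hN, dualFun_of_dvd ht htu r (mul_comm _ _) hN]
    rw [show toDeg0 ht htu (⟨(a : R) * b, SetLike.mul_mem_graded a.2 b.2⟩ : 𝒜 _) (q + r) _ =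
      toDeg0 ht htu a q (mul_comm _ _) * toDeg0 ht htu b r (mul_comm _ _) from Subtype.ext (by
        simp only [coe_toDeg0, MulMemClass.coe_mul, neg_add, zpow_add, Units.val_mul]; ring)]
    ext
    · simp
    · simp
      ring
  · rw [dualFun_of_not_dvd ht htu hi, zero_mul]
    have hz : residue (GrLC.deg0 𝒜)
        (toDeg0 ht htu (⟨(a : R) * b, SetLike.mul_mem_graded a.2 b.2⟩ : 𝒜 (i + j)) s (by rw [hs, mul_comm])) = 0 := by
      rw [residue_eq_zero_iff, mem_maximalIdeal, mem_nonunits_iff]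
      intro hu
      have h' := hu.map (GrLC.deg0 𝒜).subtype
      simp only [Subring.subtype_apply, coe_toDeg0, Units.isUnit_mul_units] at h'
      exact not_isUnit_of_not_dvd ht htu hN hmin hi a.2 (isUnit_of_mul_isUnit_left h')
    rw [hz]
    simp

/-- `R → k[ε]`, `t ↦ 1 + ε`. -/
noncomputable def dualHom (hN : 0 < N) (hmin : MinDeg 𝒜 N) :
    R →+* TrivSqZeroExt (ResidueField (GrLC.deg0 𝒜)) (ResidueField (GrLC.deg0 𝒜)) :=
  gradedHom (dualFun ht htu) (by
    rw [dualFun_of_dvd ht htu 0 (by simp) hN]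
    rw [show toDeg0 ht htu (⟨1, SetLike.one_mem_graded 𝒜⟩ : 𝒜 0) 0 _ = 1 from Subtype.ext (by simp)]
    simp) (dualFun_mul ht htu hN hmin)

/-- The residue map `R → k`, `t ↦ 1`. -/
noncomputable def resHom (hN : 0 < N) (hmin : MinDeg 𝒜 N) : R →+* ResidueField (GrLC.deg0 𝒜) :=
  ((TrivSqZeroExt.fstHom _ _ _ : TrivSqZeroExt (ResidueField (GrLC.deg0 𝒜)) (ResidueField (GrLC.deg0 𝒜)) →ₐ[ResidueField (GrLC.deg0 𝒜)] _).toRingHom).comp
    (dualHom ht htu hN hmin)

lemma dualHom_of_dvd (hN : 0 < N) (hmin : MinDeg 𝒜 N) {i : ℤ} (q : ℤ) (h : i = q * N) (a : 𝒜 i) :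
    dualHom ht htu hN hmin a = TrivSqZeroExt.inl (residue _ (toDeg0 ht htu a q h)) *
      (1 + TrivSqZeroExt.inr ((q : ℤ) : ResidueField (GrLC.deg0 𝒜))) := by
  rw [dualHom, gradedHom_apply]
  exact dualFun_of_dvd ht htu q h hN a

lemma resHom_deg0 (hN : 0 < N) (hmin : MinDeg 𝒜 N) (c : GrLC.deg0 𝒜) :
    resHom ht htu hN hmin c = residue _ c := by
  change (dualHom ht htu hN hmin ((⟨(c : R), c.2⟩ : 𝒜 0) : R)).fst = _
  rw [dualHom_of_dvd ht htu hN hmin 0 (by simp)]
  rw [show toDeg0 ht htu (⟨(c : R), c.2⟩ : 𝒜 0) 0 _ = c from Subtype.ext (by simp)]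
  simp

lemma dualHom_sub_one (hN : 0 < N) (hmin : MinDeg 𝒜 N) :
    dualHom ht htu hN hmin (t - 1) = TrivSqZeroExt.inr 1 := by
  rw [map_sub, map_one]
  have := dualHom_of_dvd ht htu hN hmin 1 (one_mul (N : ℤ)).symm ⟨t, ht⟩
  rw [show toDeg0 ht htu (⟨t, ht⟩ : 𝒜 (N : ℤ)) 1 _ = 1 from Subtype.ext (by simp)] at this
  rw [this]
  simp

lemma resHom_surjective (hN : 0 < N) (hmin : MinDeg 𝒜 N) : Function.Surjective (resHom ht htu hN hmin) := by
  intro x
  obtain ⟨c, rfl⟩ := residue_surjective x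
  exact ⟨c, resHom_deg0 ht htu hN hmin c⟩

lemma resHom_sub_one (hN : 0 < N) (hmin : MinDeg 𝒜 N) : resHom ht htu hN hmin (t - 1) = 0 := by
  change (dualHom ht htu hN hmin (t - 1)).fst = 0
  rw [dualHom_sub_one]
  simp

include ht htu in
/-- `R / (t - 1)` is a local ring, with maximal ideal the kernel of the residue map. -/
theorem eq_ker_of_isMaximal (hN : 0 < N) (hmin : MinDeg 𝒜 N) (M : Ideal R) [M.IsMaximal] (hM : t - 1 ∈ M) :
    M = RingHom.ker (resHom ht htu hN hmin) := by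
  classical
  have hker : (RingHom.ker (resHom ht htu hN hmin)).IsMaximal :=
    RingHom.ker_isMaximal_of_surjective _ (resHom_surjective ht htu hN hmin)
  refine (hker.eq_of_le ‹M.IsMaximal›.ne_top ?_).symm
  set π := Ideal.Quotient.mk (Ideal.span {t - 1})
  have hle : Ideal.span {t - 1} ≤ M := (Ideal.span_singleton_le_iff_mem _).mpr hM
  have ht1 : π t = 1 := by rw [← sub_eq_zero, ← map_one π, ← map_sub]; exact Ideal.Quotient.eq_zero_iff_mem.mpr (Ideal.mem_span_singleton_self _)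
  have hu1 : ∀ q : ℤ, π ((htu.unit ^ q : Rˣ) : R) = 1 := fun q => by
    have : Units.map π.toMonoidHom htu.unit = 1 := Units.ext ht1
    have h2 := map_zpow (Units.map π.toMonoidHom) htu.unit q
    rw [this, one_zpow] at h2
    exact congrArg Units.val h2
  let f : GrLC.deg0 𝒜 →+* R ⧸ Ideal.span {t - 1} := π.comp (GrLC.deg0 𝒜).subtype
  have hq0 : ∀ {i : ℤ} (a : 𝒜 i) (q : ℤ) (h : i = q * N), π a = f (toDeg0 ht htu a q h) := fun a q h => by
    simp only [f, RingHom.comp_apply, Subring.subtype_apply, coe_toDeg0, map_mul, hu1, mul_one]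
  have hpow : ∀ {i : ℤ} (a : 𝒜 i), ∃ c : GrLC.deg0 𝒜, π (a : R) ^ N = f c ∧ (¬ (N : ℤ) ∣ i → c ∈ maximalIdeal _) := by
    intro i a
    refine ⟨toDeg0 ht htu (⟨(a : R) ^ N, SetLike.pow_mem_graded N a.2⟩ : 𝒜 (N • i)) i (by simp [mul_comm]), ?_, fun hi => ?_⟩
    · rw [← map_pow]
      exact hq0 (⟨(a : R) ^ N, SetLike.pow_mem_graded N a.2⟩ : 𝒜 (N • i)) i _
    · rw [mem_maximalIdeal, mem_nonunits_iff]
      intro hu
      have h' := hu.map (GrLC.deg0 𝒜).subtype
      simp only [Subring.subtype_apply, coe_toDeg0, Units.isUnit_mul_units] at h'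
      exact not_isUnit_of_not_dvd ht htu hN hmin hi a.2 ((isUnit_pow_iff hN.ne').mp h')
  have hint : f.IsIntegral := by
    intro z
    obtain ⟨x, rfl⟩ := Ideal.Quotient.mk_surjective z
    rw [← DirectSum.sum_support_decompose 𝒜 x, map_sum]
    refine Finset.sum_induction _ f.IsIntegralElem (fun _ _ => RingHom.IsIntegralElem.add f) (RingHom.isIntegralElem_zero f) fun i _ => ?_
    obtain ⟨c, hc, -⟩ := hpow (DirectSum.decompose 𝒜 x i)
    refine ⟨Polynomial.X ^ N - Polynomial.C c, Polynomial.monic_X_pow_sub_C c hN.ne', ?_⟩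
    simp [← hc, π]
  set Mq := M.map π
  have hMq : Mq.comap π = M := by
    rw [Ideal.comap_map_of_surjective _ Ideal.Quotient.mk_surjective, ← RingHom.ker_eq_comap_bot, Ideal.mk_ker]
    exact sup_eq_left.mpr hle
  have : Mq.IsMaximal := by
    refine (Ideal.map_eq_top_or_isMaximal_of_surjective π Ideal.Quotient.mk_surjective ‹M.IsMaximal›).resolve_left fun h => ?_
    apply ‹M.IsMaximal›.ne_top
    rw [← hMq]
    exact (congrArg (Ideal.comap π) h).trans Ideal.comap_top
  have hm : Mq.comap f = maximalIdeal _ :=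
    eq_maximalIdeal (Ideal.isMaximal_comap_of_isIntegral_of_isMaximal' f hint Mq)
  have hnd : ∀ {i : ℤ} (a : 𝒜 i), ¬ (N : ℤ) ∣ i → (a : R) ∈ M := by
    intro i a hi
    obtain ⟨c, hc, hcm⟩ := hpow a
    rw [← hMq, Ideal.mem_comap]
    refine Ideal.IsPrime.mem_of_pow_mem inferInstance N ?_
    rw [hc, ← Ideal.mem_comap, hm]
    exact hcm hi
  -- reduce every element to degree zero modulo `M`
  have hred : ∀ x : R, ∃ c : GrLC.deg0 𝒜, x - (c : R) ∈ M ∧ resHom ht htu hN hmin x = residue _ c := by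
    intro x
    rw [← DirectSum.sum_support_decompose 𝒜 x]
    refine Finset.sum_induction _
      (fun x => ∃ c : GrLC.deg0 𝒜, x - (c : R) ∈ M ∧ resHom ht htu hN hmin x = residue _ c) ?_
      ⟨0, by simp, by simp⟩ ?_
    · rintro x y ⟨c, hc, hc'⟩ ⟨d, hd, hd'⟩
      refine ⟨c + d, ?_, by rw [map_add, map_add, hc', hd']⟩
      convert add_mem hc hd using 1
      simp [sub_add_sub_comm]
    intro i _
    set a := DirectSum.decompose 𝒜 x i
    by_cases hi : (N : ℤ) ∣ i
    · obtain ⟨q, hq⟩ := hi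
      rw [mul_comm] at hq
      refine ⟨toDeg0 ht htu a q hq, ?_, ?_⟩
      · refine hle (Ideal.Quotient.eq_zero_iff_mem.mp ?_)
        show π _ = 0
        rw [map_sub, hq0 a q hq]
        exact sub_self _
      · change (dualHom ht htu hN hmin (a : R)).fst = _
        rw [dualHom_of_dvd ht htu hN hmin q hq]
        simp
    · refine ⟨0, by simpa using hnd a hi, ?_⟩
      change (dualHom ht htu hN hmin (a : R)).fst = _
      rw [dualHom, gradedHom_apply, dualFun_of_not_dvd ht htu hi]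
      simp
  intro x hx
  obtain ⟨c, hc, hcr⟩ := hred x
  rw [RingHom.mem_ker.mp hx, eq_comm, residue_eq_zero_iff] at hcr
  have : (c : R) ∈ M := by
    rw [← hMq, Ideal.mem_comap]
    exact (hm.ge hcr : f c ∈ Mq)
  simpa using add_mem hc this

include ht htu in
theorem isRegularLocalRing_quot_sub_one [IsNoetherianRing R]
    (hreg : ∀ (p : Ideal R) [p.IsPrime], IsRegularLocalRing (Localization.AtPrime p))
    (hN : 0 < N) (hmin : MinDeg 𝒜 N) : IsRegularLocalRing (R ⧸ Ideal.span {t - 1}) := by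
  set M := RingHom.ker (resHom ht htu hN hmin)
  have hMmax : M.IsMaximal := RingHom.ker_isMaximal_of_surjective _ (resHom_surjective ht htu hN hmin)
  have := hreg M
  set B := Localization.AtPrime M
  have hmem : algebraMap R B (t - 1) ∈ maximalIdeal B :=
    (IsLocalization.AtPrime.to_map_mem_maximal_iff B M _).mpr (resHom_sub_one ht htu hN hmin)
  have hsq : algebraMap R B (t - 1) ∉ maximalIdeal B ^ 2 := by
    rw [← IsLocalization.AtPrime.map_eq_maximalIdeal M B, ← Ideal.map_pow,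
      IsLocalization.algebraMap_mem_map_algebraMap_iff M.primeCompl]
    rintro ⟨s, hs, hsq⟩
    have hzero : ∀ z ∈ M ^ 2, dualHom ht htu hN hmin z = 0 := by
      intro z hz
      rw [sq] at hz
      induction hz using Submodule.mul_induction_on' with
      | mem_mul_mem a ha b hb =>
        have ha' : (dualHom ht htu hN hmin a).fst = 0 := RingHom.mem_ker.mp ha
        have hb' : (dualHom ht htu hN hmin b).fst = 0 := RingHom.mem_ker.mp hb
        rw [map_mul]
        ext <;> simp [ha', hb']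
      | add a _ b _ h h' => rw [map_add, h, h', add_zero]
    have h := congrArg TrivSqZeroExt.snd (hzero _ hsq)
    rw [map_mul, dualHom_sub_one] at h
    simp at h
    exact hs (RingHom.mem_ker.mpr h)
  have hB := (Groth.Ega4Algebra1.isRegularLocalRing_quotient_span_singleton hmem hsq).1
  set C := R ⧸ Ideal.span {t - 1}
  have hmap : (Ideal.span {t - 1}).map (algebraMap R B) = Ideal.span {algebraMap R B (t - 1)} := by
    rw [Ideal.map_span, Set.image_singleton]
  let e : C →+* B ⧸ Ideal.span {algebraMap R B (t - 1)} :=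
    Ideal.quotientMap _ (algebraMap R B) (by rw [← hmap]; exact Ideal.le_comap_map)
  algebraize [e]
  have : IsScalarTower R C (B ⧸ Ideal.span {algebraMap R B (t - 1)}) := .of_algebraMap_eq fun _ => rfl
  have hiso : IsLocalization (Algebra.algebraMapSubmonoid C M.primeCompl) (B ⧸ Ideal.span {algebraMap R B (t - 1)}) :=
    IsLocalization.of_surjective M.primeCompl B (Ideal.Quotient.mk _) Ideal.Quotient.mk_surjective
      (Ideal.Quotient.mk _) Ideal.Quotient.mk_surjective (RingHom.ext fun _ => rfl)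
      (by rw [Ideal.mk_ker, Ideal.mk_ker, hmap])
  have hunits : ∀ x ∈ Algebra.algebraMapSubmonoid C M.primeCompl, IsUnit x := by
    rintro _ ⟨r, hr, rfl⟩
    by_contra hnu
    obtain ⟨Q, hQ, hxQ⟩ := exists_max_ideal_of_mem_nonunits hnu
    have : (Q.comap (Ideal.Quotient.mk (Ideal.span {t - 1}))).IsMaximal :=
      Ideal.comap_isMaximal_of_surjective _ Ideal.Quotient.mk_surjective
    have hQ' := eq_ker_of_isMaximal ht htu hN hmin (Q.comap (Ideal.Quotient.mk (Ideal.span {t - 1}))) (by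
      rw [Ideal.mem_comap, Ideal.Quotient.eq_zero_iff_mem.mpr (Ideal.mem_span_singleton_self _)]
      exact zero_mem _)
    exact hr (hQ'.le hxQ)
  exact IsRegularLocalRing.of_ringEquiv
    (IsLocalization.atUnits C (Algebra.algebraMapSubmonoid C M.primeCompl) (S := B ⧸ Ideal.span {algebraMap R B (t - 1)}) hunits).toRingEquiv.symm

end Groth.FiltBlProj
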